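import Groth.Agent.TwistVanish.Basic
import Groth.Agent.CohFinite.Proper
import Groth.Agent.GenLocus.Ample
import Groth.Agent.DivPts.Ass
import Groth.Agent.TensorMod.Dual
import Groth.Agent.QuasiFlatLib.Basic
import Mathlib.RingTheory.Filtration
import Mathlib.AlgebraicGeometry.ZariskisMainTheorem
import Mathlib.Topology.JacobsonSpace

/-!
# Vanishing of sections of negative twists
-/

set_option autoImplicit false
set_option backward.isDefEq.respectTransparency false
set_option backward.isDefEq.respectTransparency.types false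
set_option linter.style.haveILetI false

noncomputable section

universe u

open CategoryTheory Limits AlgebraicGeometry Opposite TopologicalSpace
open Groth.Agent.QCohBase Groth.Agent.GenLocus Groth.Agent.TensorMod

namespace Groth.Agent.TwistVanish

variable {X : Scheme.{u}}

/-- A proper scheme over a field has no positive-dimensional closed subset inside an affine open. -/
theorem isClosed_singleton_of_closure_subset (k : Type u) [Field k] [X.Over (Spec (CommRingCat.of k))]
    [IsProper (X ↘ Spec (CommRingCat.of k))] {U : X.Opens} (hU : IsAffineOpen U) {a : X}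
    (h : closure ({a} : Set X) ⊆ U) : IsClosed ({a} : Set X) := by
  let f := X ↘ Spec (CommRingCat.of k)
  let Z : Closeds X := ⟨closure {a}, isClosed_closure⟩
  let I := Scheme.IdealSheafData.vanishingIdeal Z
  have hrange : Set.range I.subschemeι = closure ({a} : Set X) := by
    rw [Scheme.IdealSheafData.range_subschemeι]
    exact Scheme.IdealSheafData.coe_support_vanishingIdeal Z
  haveI : IsAffine U.toScheme := hU
  let l := IsOpenImmersion.lift U.ι I.subschemeι (by rw [Scheme.Opens.range_ι, hrange]; exact h)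
  have hl : l ≫ U.ι = I.subschemeι := IsOpenImmersion.lift_fac _ _ _
  haveI : IsClosedImmersion (l ≫ U.ι) := by rw [hl]; infer_instance
  haveI : IsClosedImmersion l := IsClosedImmersion.of_comp l U.ι
  haveI : IsAffine I.subscheme := isAffine_of_isAffineHom l
  haveI : IsFinite (I.subschemeι ≫ f) := IsFinite.iff_isProper_and_isAffineHom.mpr ⟨inferInstance, inferInstance⟩
  haveI : Finite I.subscheme := by
    haveI : Unique (Spec (CommRingCat.of k)) := inferInstanceAs (Unique (PrimeSpectrum k))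
    have hfin := Scheme.Hom.finite_preimage_singleton (I.subschemeι ≫ f) default
    have huniv : (I.subschemeι ≫ f) ⁻¹' {default} = Set.univ :=
      Set.eq_univ_of_forall fun p ↦ Subsingleton.elim _ _
    rw [huniv] at hfin
    exact Set.finite_univ_iff.mp hfin
  have hfin : (closure ({a} : Set X)).Finite := hrange ▸ Set.finite_range _
  haveI : JacobsonSpace X := LocallyOfFiniteType.jacobsonSpace f
  have hK := JacobsonSpace.closure_inter_closedPoints (X := X) (Z := closure {a}) isClosed_closure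
  have hcl : IsClosed (closure ({a} : Set X) ∩ closedPoints X) := by
    rw [← Set.biUnion_of_singleton (closure ({a} : Set X) ∩ closedPoints X)]
    exact (hfin.inter_of_left _).isClosed_biUnion fun x hx ↦ hx.2
  rw [hcl.closure_eq] at hK
  have ha : a ∈ closure ({a} : Set X) ∩ closedPoints X := hK.symm ▸ subset_closure rfl
  exact ha.2

/-- Sections over an affine frame of `N`: the twist multiplies by the coefficient. -/
theorem exists_smul_of_twist {G H N : X.Modules} (s : Coh.structureModule X ⟶ N)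
    (ξ : CohB1.tensorMod G N ⟶ H) {U : X.Opens} {e : Γ(N, U)} {f : Γ(X, U)} (hf : f • e = sect s U)
    (y : Γ(G, U)) : ∃ w : Γ(H, U), (twistHom G s ≫ ξ).app U y = f • w := by
  refine ⟨ξ.app U (SecTwist.tmul G N U y e), ?_⟩
  show ξ.app U ((twistHom G s).app U y) = _
  rw [twistHom_app_frame G s hf]
  exact Scheme.Modules.Hom.app_smul ξ f _

variable (F M : X.Modules)

/-- The twists `F ⊗ M^{⊗ b}`. -/
abbrev tw (b : ℕ) : X.Modules := CohB1.tensorMod F (CohB1.tensorPow M b)

/-- Indices in steps of `d`. -/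
def idx (a d : ℕ) : ℕ → ℕ
  | 0 => a
  | j + 1 => idx a d j + d

lemma idx_eq (a d : ℕ) : ∀ j, idx a d j = a + j * d
  | 0 => by simp [idx]
  | j + 1 => by rw [idx, idx_eq a d j]; ring

variable {F M} {d : ℕ}

/-- The composed descent to the base twist. -/
def down (φ : ∀ b, tw F M (b + d) ⟶ tw F M b) (a : ℕ) : ∀ j, tw F M (idx a d j) ⟶ tw F M a
  | 0 => 𝟙 _
  | j + 1 => φ (idx a d j) ≫ down φ a j

lemma mono_down (φ : ∀ b, tw F M (b + d) ⟶ tw F M b) [∀ b, Mono (φ b)] (a : ℕ) :
    ∀ j, Mono (down φ a j)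
  | 0 => inferInstanceAs (Mono (𝟙 _))
  | j + 1 => haveI := mono_down φ a j; mono_comp (φ _) (down φ a j)

lemma exists_pow_smul_of_down (φ : ∀ b, tw F M (b + d) ⟶ tw F M b) {U : X.Opens} {f : Γ(X, U)}
    (hφ : ∀ b (y : Γ(tw F M (b + d), U)), ∃ w : Γ(tw F M b, U), (φ b).app U y = f • w) (a : ℕ) :
    ∀ j (y : Γ(tw F M (idx a d j), U)), ∃ v : Γ(tw F M a, U), (down φ a j).app U y = f ^ j • v
  | 0, y => ⟨y, by rw [pow_zero, one_smul]; rfl⟩
  | j + 1, y => by
    obtain ⟨w, hw⟩ := hφ (idx a d j) y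
    obtain ⟨v, hv⟩ := exists_pow_smul_of_down φ hφ a j w
    refine ⟨v, ?_⟩
    show (down φ a j).app U ((φ (idx a d j)).app U y) = _
    rw [hw, Scheme.Modules.Hom.app_smul, hv, smul_smul, pow_succ']

lemma germ_eq_zero_of_forall_pow [IsLocallyNoetherian X] {G : X.Modules} (hG : Coh.IsCoh G)
    {U : X.Opens} {w : X} (hw : w ∈ U) {f : Γ(X, U)} (hf : w ∉ X.basicOpen f) (t : Γ(G, U))
    (h : ∀ j, ∃ v : Γ(G, U), t = f ^ j • v) : G.presheaf.germ U w hw t = 0 := by
  have hm : X.presheaf.germ U w hw f ∈ IsLocalRing.maximalIdeal (X.presheaf.stalk w) :=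
    (IsLocalRing.mem_maximalIdeal _).2 fun hu ↦ hf ((X.mem_basicOpen f w hw).2 hu)
  haveI := QuasiFlatLib.finite_stalk G hG w
  haveI := IsLocallyNoetherian.component_noetherian (X := X)
  have hmem : G.presheaf.germ U w hw t ∈
      (⨅ j : ℕ, IsLocalRing.maximalIdeal (X.presheaf.stalk w) ^ j •
        (⊤ : Submodule (X.presheaf.stalk w) (G.presheaf.stalk w))) := by
    refine (Submodule.mem_iInf _).2 fun j ↦ ?_
    obtain ⟨v, rfl⟩ := h j
    rw [AssPts.germ_smul', map_pow]
    exact Submodule.smul_mem_smul (Ideal.pow_mem_pow hm j) trivial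
  rw [Ideal.iInf_pow_smul_eq_bot_of_isLocalRing _ (IsLocalRing.maximalIdeal.isMaximal _).ne_top] at hmem
  exact hmem

/-- `M^{⊗ d} ⊗ L^{⊗ d} ≅ O`. -/
def powInvIso {L M : X.Modules} (e : CohB1.tensorMod M L ≅ Coh.structureModule X) :
    ∀ n, CohB1.tensorMod (CohB1.tensorPow M n) (CohB1.tensorPow L n) ≅ Coh.structureModule X
  | 0 => unitRightIso _
  | n + 1 => assocIso _ M _ ≪≫ tensorIso (Iso.refl _) (commIso M _ ≪≫ assocIso _ L M ≪≫
      tensorIso (Iso.refl _) (commIso L M ≪≫ e) ≪≫ unitRightIso _) ≪≫ powInvIso e n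

/-- `(F ⊗ M^{⊗ (b + d)}) ⊗ L^{⊗ d} ≅ F ⊗ M^{⊗ b}`. -/
def stepIso {L M : X.Modules} (e : CohB1.tensorMod M L ≅ Coh.structureModule X) (F : X.Modules) (b d : ℕ) :
    CohB1.tensorMod (tw F M (b + d)) (CohB1.tensorPow L d) ≅ tw F M b :=
  assocIso _ _ _ ≪≫ tensorIso (Iso.refl F) (tensorIso (tensorPowAddIso M b d) (Iso.refl _) ≪≫
    assocIso _ _ _ ≪≫ tensorIso (Iso.refl _) (powInvIso e d) ≪≫ unitRightIso _)

/-- Vanishing of global sections of negative twists of a coherent module without closed associated points. -/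
theorem exists_subsingleton_HH (k : Type u) [Field k] [X.Over (Spec (CommRingCat.of k))]
    [IsProper (X ↘ Spec (CommRingCat.of k))] {L M : X.Modules} (hL : CohB1.IsAmple L)
    (hM : ClSub.IsInverseOf L M) {F : X.Modules} (hF : Coh.IsCoh F)
    (hass : ∀ x : X, IsClosed ({x} : Set X) → ¬ Curv2.IsAssPoint F x) :
    ∃ n₀ : ℕ, ∀ n : ℕ, n₀ ≤ n → Subsingleton (Coh.HH X (tw F M n) 0) := by
  classical
  haveI := LocallyOfFiniteType.isLocallyNoetherian (X ↘ Spec (CommRingCat.of k))
  haveI : CompactSpace X := QuasiCompact.compactSpace_of_compactSpace (X ↘ Spec (CommRingCat.of k))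
  obtain ⟨M', hM'inv, hM', -⟩ := exists_inverse hL.1
  have hMinv : PicF.IsInvertible M := isInvertible_of_iso (nonempty_iso_of_inverse hM' hM).some hM'inv
  obtain ⟨e⟩ := isInverseOf_symm hM
  obtain ⟨n, s, hZ, -, haff⟩ := exists_affine_genLocus_of_finite hL
    (Z := {x : X | x ∈ (⊤ : X.Opens) ∧ Curv2.IsAssPoint F x})
    (DivPts.finite_assPoints F hF ⊤ isCompact_univ) ⊤ (fun _ _ ↦ trivial)
  have hG : ∀ b, Coh.IsCoh (tw F M b) := fun b ↦ isCoh_tensorMod hF (isInvertible_tensorPow hMinv b)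
  have hGass : ∀ b x, Curv2.IsAssPoint (tw F M b) x ↔ Curv2.IsAssPoint F x := fun b x ↦
    isAssPoint_tensorMod_iff hF.1 (isInvertible_tensorPow hMinv b) x
  have hassS : ∀ b x, Curv2.IsAssPoint (tw F M b) x → x ∈ CohB1.genLocus _ s :=
    fun b x hx ↦ hZ ⟨trivial, (hGass b x).1 hx⟩
  let φ : ∀ b, tw F M (b + (n + 1)) ⟶ tw F M b := fun b ↦
    twistHom (tw F M (b + (n + 1))) s ≫ (stepIso e F b (n + 1)).hom
  haveI : ∀ b, Mono (φ b) := fun b ↦ by
    haveI : (tw F M (b + (n + 1))).IsQuasicoherent := (hG _).1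
    haveI := mono_twistHom (G := tw F M (b + (n + 1))) s (hassS _)
    exact mono_comp _ _
  let h : ℕ → ℕ := fun b ↦ Module.finrank k (Coh.HH X (tw F M b) 0)
  haveI : ∀ b, Module.Finite k (Coh.HH X (tw F M b) 0) := fun b ↦ CohFinite.finite_HH_proper _ (hG b) 0
  have hinj : ∀ a j, Function.Injective (CohFinite.hhMap k (down φ a j) 0) := fun a j ↦ by
    haveI := mono_down φ a j
    exact CohFinite.hhMap_injective_of_mono _
  have hle : ∀ a j, h (idx a (n + 1) j) ≤ h a := fun a j ↦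
    LinearMap.finrank_le_finrank_of_injective (hinj a j)
  have hzero : ∀ a, (∀ j, h a ≤ h (idx a (n + 1) j)) → Subsingleton (Coh.HH X (tw F M a) 0) := by
    intro a ha
    haveI : (tw F M a).IsQuasicoherent := (hG a).1
    refine subsingleton_of_forall_eq 0 fun x ↦ ?_
    let eq₀ : ∀ b, Coh.HH X (tw F M b) 0 ≃+ Γ(tw F M b, ⊤) := fun b ↦
      CategoryTheory.Sheaf.H.equiv₀ (Coh.toAb (tw F M b)) isTerminalTop
    have hdiv : ∀ j, ∃ y, (down φ a j).app ⊤ y = eq₀ a x := fun j ↦ by
      obtain ⟨z, hz⟩ := (LinearMap.injective_iff_surjective_of_finrank_eq_finrank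
        (le_antisymm (hle a j) (ha j))).1 (hinj a j) x
      refine ⟨eq₀ _ z, ?_⟩
      rw [← hz]
      exact CategoryTheory.Sheaf.H.equiv₀_naturality isTerminalTop ((modAb X).map (down φ a j)) z
    have hgerm : ∀ w : X, w ∉ CohB1.genLocus _ s →
        (tw F M a).presheaf.germ ⊤ w trivial (eq₀ a x) = 0 := by
      intro w hw
      obtain ⟨U, hU, hwU, eU, he⟩ := exists_affine_frame (isInvertible_tensorPow hL.1 (n + 1)) w
      obtain ⟨f, hf, hfD⟩ := genLocus_inf_frame s he
      rw [← AssPts.germ_mres (tw F M a) w (le_top : U ≤ ⊤) hwU]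
      refine germ_eq_zero_of_forall_pow (hG a) hwU (f := f) (fun hwf ↦ hw (hfD.ge hwf).1) _ fun j ↦ ?_
      obtain ⟨y, hy⟩ := hdiv j
      obtain ⟨v, hv⟩ := exists_pow_smul_of_down φ
        (fun b y ↦ exists_smul_of_twist s _ hf y) a j (mres _ (le_top : U ≤ ⊤) y)
      exact ⟨v, by rw [← hy, app_nat]; exact hv⟩
    have ht : eq₀ a x = 0 := by
      choose A hA hxA using fun y : X ↦ (exists_isAffineOpen_mem_and_subset (x := y) (U := ⊤) trivial)
      refine eq_of_iSup_le (tw F M a) A (fun _ ↦ le_top)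
        (fun y _ ↦ Opens.mem_iSup.2 ⟨y, (hxA y).1⟩) _ _ fun y ↦ ?_
      rw [map_zero]
      refine AssPts.eq_zero_of_forall_germ _ (hA y) _ fun z hz hzA ↦ ?_
      obtain ⟨w, hw, hwS⟩ : ∃ w ∈ closure ({z} : Set X), w ∉ CohB1.genLocus _ s := by
        by_contra! hcon
        exact hass z (isClosed_singleton_of_closure_subset k haff hcon) ((hGass a z).1 hzA)
      rw [AssPts.germ_mres]
      obtain ⟨W, hwW, i₁, i₂, heW⟩ := TopCat.Presheaf.germ_eq (tw F M a).presheaf w
        (show w ∈ (⊤ : X.Opens) from trivial) (show w ∈ (⊤ : X.Opens) from trivial)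
        (eq₀ a x) 0 ((hgerm w hwS).trans (map_zero _).symm)
      have hzW : z ∈ W := (specializes_iff_mem_closure.2 hw).mem_open W.2 hwW
      have h0 : mres (tw F M a) i₁.le (eq₀ a x) = 0 := heW.trans (map_zero _)
      rw [← AssPts.germ_mres (tw F M a) z i₁.le hzW, h0, map_zero]
    exact (eq₀ a).map_eq_zero_iff.1 ht
  have hstab : ∀ r, ∃ J, ∀ j, J ≤ j → Subsingleton (Coh.HH X (tw F M (r + j * (n + 1))) 0) := by
    intro r
    let g : ℕ → ℕ := fun j ↦ h (r + j * (n + 1))
    obtain ⟨J, hJ⟩ : ∃ J, ∀ j, g J ≤ g j := ⟨Function.argmin g, fun j ↦ Function.argmin_le g j⟩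
    refine ⟨J, fun j hj ↦ hzero _ fun i ↦ ?_⟩
    obtain ⟨i', rfl⟩ := Nat.exists_eq_add_of_le hj
    have h1 := hle (r + J * (n + 1)) i'
    rw [idx_eq] at h1 ⊢
    have h2 : r + J * (n + 1) + i' * (n + 1) = r + (J + i') * (n + 1) := by ring
    have h3 : r + (J + i') * (n + 1) + i * (n + 1) = r + (J + i' + i) * (n + 1) := by ring
    rw [h2] at h1
    rw [h3]
    exact h1.trans (hJ _)
  choose J hJ using hstab
  refine ⟨(n + 1) * ((∑ r ∈ Finset.range (n + 1), J r) + 1), fun m hm ↦ ?_⟩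
  have hq := hJ (m % (n + 1)) (m / (n + 1)) (le_trans
    (Finset.single_le_sum (f := J) (fun _ _ ↦ Nat.zero_le _) (Finset.mem_range.2 (Nat.mod_lt _ n.succ_pos)))
    ((Nat.le_div_iff_mul_le n.succ_pos).2 (by nlinarith)))
  rwa [Nat.mod_add_div' m (n + 1)] at hq

end Groth.Agent.TwistVanish
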