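import Groth.Agent.GenLocus.PullTensor
import Groth.Agent.GenLocus.Extend
import Groth.Agent.AssPts.Basic
import Groth.Agent.QCohBase.Finite
import Groth.Agent.QCohBase.CohProps
import Groth.Agent.TensorMod.Invertible
import Groth.Agent.Devissage.General

/-!
# Tensoring with an invertible module: sections against a frame, twist by a section
-/

set_option autoImplicit false
set_option backward.isDefEq.respectTransparency false
set_option backward.isDefEq.respectTransparency.types false
set_option linter.style.haveILetI false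

noncomputable section

universe u

open CategoryTheory Limits AlgebraicGeometry Opposite TopologicalSpace
open Groth.Agent.QCohBase Groth.Agent.GenLocus
open scoped TensorProduct

namespace Groth.Agent.TwistVanish

/-- Tensoring with a free rank one module. -/
lemma bijective_tmul_of_basis {R A B : Type*} [CommRing R] [AddCommGroup A] [Module R A]
    [AddCommGroup B] [Module R B] (b : B) (hb : Function.Bijective fun r : R ↦ r • b) :
    Function.Bijective fun a : A ↦ a ⊗ₜ[R] b := by
  let eb := LinearEquiv.ofBijective (LinearMap.toSpanSingleton R B b) hb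
  let e := (TensorProduct.rid R A).symm ≪≫ₗ TensorProduct.congr (LinearEquiv.refl R A) eb
  have : (fun a : A ↦ a ⊗ₜ[R] b) = e := funext fun a ↦ by simp [e, eb]
  rw [this]
  exact e.bijective

variable {X : Scheme.{u}}

/-- Tensoring sections with a frame is bijective. -/
theorem bijective_tmul_frame (G : X.Modules) {N : X.Modules} {U : X.Opens} {e : Γ(N, U)}
    (he : IsFrame N e) (V : X.Opens) (hV : V ≤ U) :
    Function.Bijective fun a : Γ(G, V) ↦ SecTwist.tmul G N V a (mres N hV e) := by
  have hpre : ∀ (W : X.Opens) (hW : W ≤ U), Function.Bijective fun a : Γ(G, W) ↦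
      a ⊗ₜ[Γ(X, W)] mres N hW e :=
    fun W hW ↦ bijective_tmul_of_basis _ (he W hW)
  have hmap : ∀ (W W' : X.Opens) (h : W' ≤ W) (hW : W ≤ U) (a : Γ(G, W)),
      (CohB1.tensorPre G N).map (homOfLE h).op (a ⊗ₜ[Γ(X, W)] mres N hW e) =
        mres G h a ⊗ₜ[Γ(X, W')] mres N (h.trans hW) e := fun W W' h hW a ↦
    congrArg (mres G h a ⊗ₜ[Γ(X, W')] ·) (mres_mres N hW h e)
  have hres : ∀ (W W' : X.Opens) (h : W' ≤ W) (hW : W ≤ U) (a : Γ(G, W)),
      mres (CohB1.tensorMod G N) h (SecTwist.tmul G N W a (mres N hW e)) =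
        SecTwist.tmul G N W' (mres G h a) (mres N (h.trans hW) e) := fun W W' h hW a ↦
    (SecTwist.map_tmul G N (homOfLE h) a _).trans
      (congrArg (SecTwist.tmul G N W' (mres G h a)) (mres_mres N hW h e))
  have hinj : ∀ (W : X.Opens) (hW : W ≤ U) (a a' : Γ(G, W)),
      SecTwist.tmul G N W a (mres N hW e) = SecTwist.tmul G N W a' (mres N hW e) → a = a' := by
    intro W hW a a' haa
    choose Q hQ hpQ hQeq using fun p : W ↦ locallyInjective_toT G N (a ⊗ₜ[Γ(X, W)] mres N hW e)
      (a' ⊗ₜ[Γ(X, W)] mres N hW e) haa p.2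
    refine eq_of_iSup_le G Q hQ (fun p hp ↦ Opens.mem_iSup.mpr ⟨⟨p, hp⟩, hpQ _⟩) _ _ fun p ↦ ?_
    have := hQeq p
    rw [hmap _ _ (hQ p) hW a, hmap _ _ (hQ p) hW a'] at this
    exact (hpre _ ((hQ p).trans hW)).1 this
  refine ⟨fun a a' h ↦ hinj V hV a a' h, fun σ ↦ ?_⟩
  choose Q hQ x hpQ hx using fun p : V ↦ locallySurjective_toT G N σ p.2
  choose a ha using fun p : V ↦ (hpre (Q p) ((hQ p).trans hV)).2 (x p)
  have hσ : ∀ p : V, SecTwist.tmul G N (Q p) (a p) (mres N ((hQ p).trans hV) e) =
      mres (CohB1.tensorMod G N) (hQ p) σ :=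
    fun p ↦ (congrArg (toT G N (Q p)) (ha p)).trans (hx p)
  have hcov : V ≤ iSup Q := fun p hp ↦ Opens.mem_iSup.mpr ⟨⟨p, hp⟩, hpQ _⟩
  obtain ⟨t, ht, -⟩ := TopCat.Sheaf.existsUnique_gluing' ⟨G.presheaf, G.isSheaf⟩ Q V
    (fun p ↦ homOfLE (hQ p)) hcov a (fun p q ↦ hinj (Q p ⊓ Q q) (inf_le_left.trans ((hQ p).trans hV)) _ _ (by
      have e1 := congrArg (mres _ (inf_le_left : Q p ⊓ Q q ≤ Q p)) (hσ p)
      have e2 := congrArg (mres _ (inf_le_right : Q p ⊓ Q q ≤ Q q)) (hσ q)
      refine ((hres _ _ inf_le_left ((hQ p).trans hV) (a p)).symm.trans (e1.trans ?_)).trans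
        (hres _ _ inf_le_right ((hQ q).trans hV) (a q))
      refine Eq.trans ?_ e2.symm
      exact (mres_mres (CohB1.tensorMod G N) _ _ _).trans (mres_mres (CohB1.tensorMod G N) _ _ _).symm))
  refine ⟨t, eq_of_iSup_le (CohB1.tensorMod G N) Q hQ hcov _ _ fun p ↦ ?_⟩
  rw [hres, show mres G (hQ p) t = a p from ht p]
  exact hσ p

/-- Sections of `G ⊗ N` over the domain of a frame of `N`. -/
def tmulEquiv (G : X.Modules) {N : X.Modules} {U : X.Opens} {e : Γ(N, U)} (he : IsFrame N e) :
    Γ(G, U) ≃ₗ[Γ(X, U)] Γ(CohB1.tensorMod G N, U) :=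
  LinearEquiv.ofBijective
    { toFun := fun a ↦ SecTwist.tmul G N U a e
      map_add' := fun a b ↦ DFunLike.congr_fun (map_add (tmulBi G N U) a b) e
      map_smul' := fun r a ↦ tmul_smul_left G N r a e }
    (by
      have h := bijective_tmul_frame G he U le_rfl
      rw [mres_refl] at h
      exact h)

lemma exists_affine_frame {N : X.Modules} (hN : PicF.IsInvertible N) (x : X) :
    ∃ (U : X.Opens) (_ : IsAffineOpen U) (_ : x ∈ U) (e : Γ(N, U)), IsFrame N e := by
  obtain ⟨U, hU, hxU, -, e, he⟩ := exists_isFrame hN (W := ⊤) (x := x) trivial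
  exact ⟨U, hU, hxU, e, he⟩

/-- Twists of coherent modules by invertible modules are coherent. -/
theorem isCoh_tensorMod {G N : X.Modules} (hG : Coh.IsCoh G) (hN : PicF.IsInvertible N) :
    Coh.IsCoh (CohB1.tensorMod G N) := by
  haveI hq : (CohB1.tensorMod G N).IsQuasicoherent := TensorMod.isQCoh_tensorMod hN hG.1
  refine ⟨hq, isFiniteType_of_finite _ fun x ↦ ?_⟩
  obtain ⟨U, hU, hxU, e, he⟩ := exists_affine_frame hN x
  haveI := isFiniteType_toFinite hG hU
  exact ⟨U, hU, hxU, Module.Finite.equiv (tmulEquiv G he)⟩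

lemma mem_ass_congr {R A B : Type u} [CommRing R] [AddCommGroup A] [Module R A] [AddCommGroup B]
    [Module R B] (f : A ≃ₗ[R] B) (p : Ideal R) (h : p ∈ FlatCA.ass R A) : p ∈ FlatCA.ass R B := by
  obtain ⟨hp, m, rfl⟩ := h
  refine ⟨hp, f m, ?_⟩
  ext r
  rw [Submodule.mem_annihilator_span_singleton, Submodule.mem_annihilator_span_singleton, ← map_smul]
  exact f.map_eq_zero_iff.symm

/-- Twisting by an invertible module keeps the associated points. -/
theorem isAssPoint_tensorMod_iff [IsLocallyNoetherian X] {G N : X.Modules} (hG : Coh.IsQCoh G)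
    (hN : PicF.IsInvertible N) (x : X) :
    Curv2.IsAssPoint (CohB1.tensorMod G N) x ↔ Curv2.IsAssPoint G x := by
  haveI : G.IsQuasicoherent := hG
  haveI : (CohB1.tensorMod G N).IsQuasicoherent := TensorMod.isQCoh_tensorMod hN hG
  obtain ⟨U, hU, hxU, e, he⟩ := exists_affine_frame hN x
  haveI := isNoetherianRing_sections hU
  have h1 := AssPts.mem_ass_iff (CohB1.tensorMod G N) hU x hxU
  have h2 := AssPts.mem_ass_iff G hU x hxU
  exact h1.trans ⟨fun h ↦ h2.2 (mem_ass_congr (tmulEquiv G he).symm _ h),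
    fun h ↦ mem_ass_congr (tmulEquiv G he) _ (h2.1 h)⟩

/-- Multiplication by a global section `s` of `N`, as a morphism `G ⟶ G ⊗ N`. -/
def twistHom (G : X.Modules) {N : X.Modules} (s : Coh.structureModule X ⟶ N) :
    G ⟶ CohB1.tensorMod G N :=
  ⟨PresheafOfModules.homMk
    { app := fun V ↦ AddCommGrpCat.ofHom
        ((tmulBi G N V.unop).flip (sect s V.unop))
      naturality := fun V W f ↦ AddCommGrpCat.hom_ext (AddMonoidHom.ext fun a ↦ by
        show SecTwist.tmul G N W.unop (G.val.map f a) (sect s W.unop) =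
          (CohB1.tensorMod G N).val.map f (SecTwist.tmul G N V.unop a (sect s V.unop))
        refine Eq.symm ((SecTwist.map_tmul G N f.unop a _).trans ?_)
        exact congrArg (SecTwist.tmul G N W.unop _) (SecTwist.map_val s f.unop)) }
    fun V r a ↦ tmul_smul_left G N r a (sect s V.unop)⟩

lemma twistHom_app (G : X.Modules) {N : X.Modules} (s : Coh.structureModule X ⟶ N) (V : X.Opens)
    (a : Γ(G, V)) : (twistHom G s).app V a = SecTwist.tmul G N V a (sect s V) := rfl

/-- In a frame, the twist is multiplication by the coefficient of the section. -/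
lemma twistHom_app_frame (G : X.Modules) {N : X.Modules} (s : Coh.structureModule X ⟶ N)
    {V : X.Opens} {e : Γ(N, V)} {f : Γ(X, V)} (hf : f • e = sect s V) (a : Γ(G, V)) :
    (twistHom G s).app V a = f • SecTwist.tmul G N V a e := by
  rw [twistHom_app, ← hf, tmul_smul_right]

/-- A section killed by the twist vanishes on the locus of generation. -/
lemma res_eq_zero_of_twistHom {G N : X.Modules} (s : Coh.structureModule X ⟶ N) {V : X.Opens}
    (a : Γ(G, V)) (ha : (twistHom G s).app V a = 0) {W : X.Opens} (hWV : W ≤ V)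
    (hW : W ≤ CohB1.genLocus N s) : mres G hWV a = 0 := by
  have hb := bijective_tmul_frame G (isFrame_sect_genLocus s) W hW
  apply hb.1
  simp only [mres_sect]
  rw [← twistHom_app, ← twistHom_app, map_zero]
  exact (app_nat (twistHom G s) hWV a).symm.trans ((congrArg _ ha).trans (map_zero _))

/-- The twist is a monomorphism if the section generates at all associated points. -/
theorem mono_twistHom [IsLocallyNoetherian X] {G N : X.Modules} [G.IsQuasicoherent]
    (s : Coh.structureModule X ⟶ N)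
    (hs : ∀ x : X, Curv2.IsAssPoint G x → x ∈ CohB1.genLocus N s) : Mono (twistHom G s) := by
  refine Devissage.mono_of_app_injective _ fun V ↦ (injective_iff_map_eq_zero _).2 fun a ha ↦ ?_
  choose A hA hxA hAV using fun y : V => Opens.isBasis_iff_nbhd.1 X.isBasis_affineOpens y.2
  refine eq_of_iSup_le G A hAV (fun y hy => Opens.mem_iSup.2 ⟨⟨y, hy⟩, hxA ⟨y, hy⟩⟩) _ _ fun y => ?_
  rw [map_zero]
  refine AssPts.eq_zero_of_forall_germ G (hA y) _ fun z hz hzA ↦ ?_
  have hzs := hs z hzA
  have h0 := res_eq_zero_of_twistHom s a ha (W := A y ⊓ CohB1.genLocus N s)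
    (inf_le_left.trans (hAV y)) inf_le_right
  rw [← AssPts.germ_mres G z (inf_le_left : A y ⊓ CohB1.genLocus N s ≤ A y) ⟨hz, hzs⟩, mres_mres, h0,
    map_zero]

end Groth.Agent.TwistVanish
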